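import Groth.Agent.EtMonoFac.OpenDiag
import Groth.Agent.MonoFactor.Basic
import Groth.Agent.InfLift.SmoothLift
import Mathlib

/-!
Factorisation of a map to a formally unramified scheme through an étale scheme.
-/

set_option autoImplicit false
set_option linter.style.haveILetI false
set_option backward.isDefEq.respectTransparency false
set_option backward.isDefEq.respectTransparency.types false

universe u

open CategoryTheory CategoryTheory.Limits AlgebraicGeometry TopologicalSpace

namespace Groth.Agent.EtMonoFac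

variable {E Y S : Scheme.{u}}

theorem formallyEtale_appLE (m : E ⟶ Y) (b : Y ⟶ S) [Mono m] [Etale (m ≫ b)] [FormallyUnramified b]
    {V : Y.Opens} (hV : IsAffineOpen V) {U : E.Opens} (hU : IsAffineOpen U) (e : U ≤ m ⁻¹ᵁ V) :
    (m.appLE V U e).hom.FormallyEtale := by
  haveI : FormallyUnramified m := inferInstance
  letI := (m.appLE V U e).hom.toAlgebra
  haveI : Algebra.FormallyUnramified Γ(Y, V) Γ(E, U) := m.formallyUnramified_appLE hV hU e
  haveI : Algebra.FormallySmooth Γ(Y, V) Γ(E, U) := by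
    refine Algebra.FormallySmooth.iff_comp_surjective.mpr fun A _ _ I hI g => ?_
    let mk : CommRingCat.of A ⟶ CommRingCat.of (A ⧸ I) := CommRingCat.ofHom (Ideal.Quotient.mk I)
    let g' : Γ(E, U) ⟶ CommRingCat.of (A ⧸ I) := CommRingCat.ofHom g.toRingHom
    let α : Γ(Y, V) ⟶ CommRingCat.of A := CommRingCat.ofHom (algebraMap Γ(Y, V) A)
    have hg : m.appLE V U e ≫ g' = α ≫ mk := CommRingCat.hom_ext g.comp_algebraMap
    have hm : hU.fromSpec ≫ m = Spec.map (m.appLE V U e) ≫ hV.fromSpec :=
      (IsAffineOpen.SpecMap_appLE_fromSpec m hV hU e).symm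
    let a : Spec (CommRingCat.of (A ⧸ I)) ⟶ E := Spec.map g' ≫ hU.fromSpec
    have hcond : Spec.map mk ≫ Spec.map α ≫ hV.fromSpec = a ≫ m := by
      simp only [a, Category.assoc, hm]
      rw [← Spec.map_comp_assoc, ← Spec.map_comp_assoc, hg]
    obtain ⟨l, hl₁, hl₂⟩ := InfLift.isFormallySmoothHom_of_smooth (m ≫ b) A I hI a
      ((Spec.map α ≫ hV.fromSpec) ≫ b) (by
        show Spec.map mk ≫ (Spec.map α ≫ hV.fromSpec) ≫ b = a ≫ m ≫ b
        rw [← Category.assoc (Spec.map mk), hcond, Category.assoc])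
    have hmks : Function.Surjective mk.hom := Ideal.Quotient.mk_surjective
    haveI : IsClosedImmersion (Spec.map mk) := IsClosedImmersion.spec_of_surjective mk hmks
    have hnil : IsNilpotent (Spec.map mk).ker := MagnetAttr.isNilpotent_ker_SpecMap mk (by
      show RingHom.ker (Ideal.Quotient.mk I) ^ 2 = ⊥
      rw [Ideal.mk_ker, hI])
    have hlm : l ≫ m = Spec.map α ≫ hV.fromSpec := by
      refine FormallyUnramified.hom_ext (Spec.map mk) hnil b ?_ (by rw [Category.assoc, hl₂])
      rw [reassoc_of% hl₁, hcond]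
    have hsurj : Function.Surjective (Spec.map mk) := fun P => by
      have hP : I ≤ P.asIdeal := fun x hx =>
        P.isPrime.mem_of_pow_mem 2 (by
          have : x ^ 2 ∈ I ^ 2 := Ideal.pow_mem_pow hx 2
          rw [hI] at this
          rw [(Ideal.mem_bot).1 this]
          exact P.asIdeal.zero_mem)
      obtain ⟨Q, hQ⟩ : P ∈ Set.range (PrimeSpectrum.comap (Ideal.Quotient.mk I)) := by
        rw [range_comap_of_surjective _ _ Ideal.Quotient.mk_surjective, Ideal.mk_ker]
        exact hP
      exact ⟨Q, hQ⟩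
    have hrange : Set.range l ⊆ Set.range hU.fromSpec := by
      rintro _ ⟨P, rfl⟩
      obtain ⟨Q, rfl⟩ := hsurj P
      rw [← Scheme.Hom.comp_apply]
      erw [hl₁]
      exact ⟨_, rfl⟩
    obtain ⟨ψ, hψ⟩ := Spec.map_surjective (IsOpenImmersion.lift hU.fromSpec l hrange)
    have hψl : Spec.map ψ ≫ hU.fromSpec = l := by rw [hψ, IsOpenImmersion.lift_fac]
    have h1 : m.appLE V U e ≫ ψ = α := by
      apply Spec.map_injective
      rw [← cancel_mono hV.fromSpec, Spec.map_comp, Category.assoc, ← hm, reassoc_of% hψl, hlm]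
    have h2 : ψ ≫ mk = g' := by
      apply Spec.map_injective
      rw [← cancel_mono hU.fromSpec, Spec.map_comp, Category.assoc, hψl, hl₁]
    refine ⟨{ ψ.hom with commutes' := fun r => ConcreteCategory.congr_hom h1 r }, ?_⟩
    ext x
    exact ConcreteCategory.congr_hom h2 x
  exact Algebra.FormallyEtale.iff_formallyUnramified_and_formallySmooth.mpr ⟨‹_›, ‹_›⟩

/-- Descent of a compatible map along a faithfully flat quasi-compact morphism. -/
theorem existsUnique_comparison {X E' : Scheme.{u}} (u : X ⟶ E) [Flat u] [Surjective u] [QuasiCompact u]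
    (m : E ⟶ Y) (u' : X ⟶ E') (m' : E' ⟶ Y) [Mono m'] (hh : u ≫ m = u' ≫ m') :
    ∃! i : E ⟶ E', u ≫ i = u' ∧ i ≫ m' = m := by
  haveI : Epi u := Flat.epi_of_flat_of_surjective u
  have hc : ∀ {Z : Scheme.{u}} (g₁ g₂ : Z ⟶ X), g₁ ≫ u = g₂ ≫ u → g₁ ≫ u' = g₂ ≫ u' := fun g₁ g₂ hg => by
    rw [← cancel_mono m', Category.assoc, Category.assoc, ← hh, reassoc_of% hg]
  refine ⟨EffectiveEpi.desc u u' hc, ⟨EffectiveEpi.fac u u' hc, ?_⟩, fun i hi => ?_⟩
  · rw [← cancel_epi u, EffectiveEpi.fac_assoc, hh]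
  · rw [← cancel_epi u, hi.1, EffectiveEpi.fac]

/-- Existence of the factorisation. -/
theorem exists_factorisation {X : Scheme.{u}} [IsNoetherian S] (a : X ⟶ S) [Flat a]
    [LocallyOfFinitePresentation a] [QuasiCompact a] (b : Y ⟶ S) [FormallyUnramified b] (h : X ⟶ Y)
    (w : h ≫ b = a) :
    ∃ (E : Scheme.{u}) (u : X ⟶ E) (m : E ⟶ Y),
      Etale (m ≫ b) ∧ Flat u ∧ Surjective u ∧ LocallyOfFinitePresentation u ∧ QuasiCompact u ∧
        QuasiSeparated u ∧ Mono m ∧ LocallyOfFiniteType m ∧ QuasiCompact m ∧ u ≫ m = h ∧ IsNoetherian E := by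
  subst w
  haveI : IsLocallyNoetherian X := LocallyOfFiniteType.isLocallyNoetherian (h ≫ b)
  haveI : CompactSpace X := QuasiCompact.compactSpace_of_compactSpace (h ≫ b)
  haveI : IsNoetherian X := {}
  haveI : LocallyOfFiniteType h := locallyOfFiniteType_of_comp h b
  haveI : IsLocallyNoetherian (pullback (h ≫ b) (h ≫ b)) :=
    LocallyOfFiniteType.isLocallyNoetherian (pullback.fst (h ≫ b) (h ≫ b) ≫ (h ≫ b))
  haveI : IsOpenImmersion (pullback.mapDesc h h b) := isOpenImmersion_mapDesc h h b
  have hfst : pullback.fst h h = pullback.mapDesc h h b ≫ pullback.fst (h ≫ b) (h ≫ b) := by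
    simp only [pullback.mapDesc, pullback.lift_fst, Category.comp_id]
  haveI : Flat (pullback.fst h h) := by rw [hfst]; infer_instance
  haveI : LocallyOfFinitePresentation (pullback.fst h h) := by rw [hfst]; infer_instance
  obtain ⟨E, u, m, hs, hfl, hfp, hm, hum⟩ := MonoFactor.exists_factor' h ‹_› ‹_›
  have humb : u ≫ m ≫ b = h ≫ b := by rw [← Category.assoc, hum]
  haveI : Flat (u ≫ m ≫ b) := humb ▸ inferInstance
  haveI : LocallyOfFinitePresentation (u ≫ m ≫ b) := humb ▸ inferInstance
  haveI : Flat (m ≫ b) := flat_of_surjective_flat_comp u (m ≫ b)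
  haveI : LocallyOfFinitePresentation (m ≫ b) := FppfSource.lfp u (m ≫ b)
  haveI : FormallyUnramified m := inferInstance
  haveI : FormallyUnramified (m ≫ b) := MorphismProperty.comp_mem _ _ _ ‹_› ‹_›
  haveI he : Etale (m ≫ b) := Etale.of_formallyUnramified_of_flat _
  haveI : IsLocallyNoetherian E := LocallyOfFiniteType.isLocallyNoetherian (m ≫ b)
  haveI : CompactSpace E := ⟨by
    have h1 : IsCompact (u '' Set.univ) := isCompact_univ.image u.continuous
    rwa [Set.image_univ, u.surjective.range_eq] at h1⟩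
  haveI : IsNoetherian E := {}
  haveI : LocallyOfFiniteType m := locallyOfFiniteType_of_comp m b
  exact ⟨E, u, m, he, hfl, hs, hfp, ⟨fun U _ _ => NoetherianSpace.isCompact _⟩,
    inferInstance, hm, inferInstance, ⟨fun U _ _ => NoetherianSpace.isCompact _⟩, hum, inferInstance⟩

end Groth.Agent.EtMonoFac
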