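import Groth.Agent.EtMonoFac.Basic
import Groth.Agent.SchDomRad.Basic
import Groth.Agent.EtFrobCorr.Frob
import Groth.Prelude.Def_Frob
import Mathlib

/-!
An initial étale scheme is initial among formally unramified schemes; relatively perfect morphisms.
-/

set_option autoImplicit false
set_option linter.style.haveILetI false
set_option backward.isDefEq.respectTransparency false
set_option backward.isDefEq.respectTransparency.types false

universe u

open CategoryTheory CategoryTheory.Limits AlgebraicGeometry TopologicalSpace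

namespace Groth.Agent.EtMonoFac

/-- The universal map to an étale scheme is an epimorphism. -/
theorem epi_of_initial {X P S : Scheme.{u}} [IsNoetherian S] (a : X ⟶ S) [Flat a]
    [LocallyOfFinitePresentation a] (c : P ⟶ S) [Etale c] [QuasiCompact c]
    (ϖ : X ⟶ P) (hϖ : ϖ ≫ c = a)
    (hinit : ∀ (E : Scheme.{u}) (e : E ⟶ S), Etale e → QuasiCompact e → QuasiSeparated e →
      ∀ k : X ⟶ E, k ≫ e = a → ∃! l : P ⟶ E, ϖ ≫ l = k ∧ l ≫ e = c) : Epi ϖ := by
  subst hϖ
  haveI : IsLocallyNoetherian P := LocallyOfFiniteType.isLocallyNoetherian c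
  haveI : CompactSpace P := QuasiCompact.compactSpace_of_compactSpace c
  haveI : IsNoetherian P := {}
  haveI : Flat ϖ := SchDomRad.flat_of_comp_etale ϖ c
  haveI : LocallyOfFiniteType ϖ := locallyOfFiniteType_of_comp ϖ c
  haveI : LocallyOfFinitePresentation ϖ := lfp_of_lft' ϖ
  let O : P.Opens := ⟨Set.range ϖ, ϖ.isOpenMap.isOpen_range⟩
  let ϖ' : X ⟶ O.toScheme := IsOpenImmersion.lift O.ι ϖ (by simp [O])
  have h1 : ϖ' ≫ O.ι = ϖ := IsOpenImmersion.lift_fac _ _ _
  have hk : ϖ' ≫ O.ι ≫ c = ϖ ≫ c := by rw [reassoc_of% h1]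
  haveI : IsLocallyNoetherian O.toScheme := LocallyOfFiniteType.isLocallyNoetherian (O.ι ≫ c)
  haveI : CompactSpace O.toScheme := isCompact_iff_compactSpace.1 (NoetherianSpace.isCompact (O : Set P))
  haveI : IsNoetherian O.toScheme := {}
  obtain ⟨l, ⟨hl₁, hl₂⟩, -⟩ := hinit O.toScheme (O.ι ≫ c) inferInstance
    ⟨fun U _ _ => NoetherianSpace.isCompact _⟩ inferInstance ϖ' hk
  have hid : l ≫ O.ι = 𝟙 P := by
    refine (hinit P c inferInstance inferInstance inferInstance ϖ rfl).unique ⟨?_, ?_⟩
      ⟨Category.comp_id _, Category.id_comp _⟩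
    · rw [reassoc_of% hl₁, h1]
    · rw [Category.assoc, hl₂]
  haveI : Surjective ϖ := ⟨fun x => by
    have h2 : O.ι (l x) = x := by rw [← Scheme.Hom.comp_apply, hid]; rfl
    have h3 : O.ι (l x) ∈ (O : Set P) := (l x).2
    rwa [h2] at h3⟩
  exact Flat.epi_of_flat_of_surjective ϖ

/-- An initial étale scheme is initial among formally unramified ones. -/
theorem existsUnique_of_formallyUnramified {X P S : Scheme.{u}} [IsNoetherian S] (a : X ⟶ S) [Flat a]
    [LocallyOfFinitePresentation a] [QuasiCompact a] (c : P ⟶ S) [Etale c] [QuasiCompact c]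
    (ϖ : X ⟶ P) (hϖ : ϖ ≫ c = a)
    (hinit : ∀ (E : Scheme.{u}) (e : E ⟶ S), Etale e → QuasiCompact e → QuasiSeparated e →
      ∀ k : X ⟶ E, k ≫ e = a → ∃! l : P ⟶ E, ϖ ≫ l = k ∧ l ≫ e = c)
    (Y : Scheme.{u}) (b : Y ⟶ S) [FormallyUnramified b] (k : X ⟶ Y) (hk : k ≫ b = a) :
    ∃! l : P ⟶ Y, ϖ ≫ l = k ∧ l ≫ b = c := by
  haveI := epi_of_initial a c ϖ hϖ hinit
  obtain ⟨E, v, m, he, -, -, -, -, -, -, -, -, hvm, hE⟩ := exists_factorisation a b k hk
  obtain ⟨l0, ⟨hl₁, hl₂⟩, -⟩ := hinit E (m ≫ b) he ⟨fun U _ _ => NoetherianSpace.isCompact _⟩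
    inferInstance v (by rw [← Category.assoc, hvm, hk])
  refine ⟨l0 ≫ m, ⟨by rw [reassoc_of% hl₁, hvm], by rw [Category.assoc, hl₂]⟩, fun l hl => ?_⟩
  rw [← cancel_epi ϖ, hl.1, reassoc_of% hl₁, hvm]

variable (p : ℕ) [Fact p.Prime]

theorem isAbsFrob_frob (X : Scheme.{u}) [FrobSch.IsCharP X p] :
    EtFrobCorr.IsAbsFrob p (FrobSch.frob X p) where
  base _ := rfl
  preim _ := rfl
  app V s := by
    rw [FrobSch.frob_app]
    exact (ConcreteCategory.congr_hom (X.presheaf.map_id (Opposite.op V)) (s ^ p)).symm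

variable {X S : Scheme.{u}} [FrobSch.IsCharP S p]

/-- The relative Frobenius of an étale morphism is an isomorphism. -/
theorem isIso_relFrob_of_etale (f : X ⟶ S) [Etale f] : IsIso (FrobSch.relFrob f p) := by
  haveI : FrobSch.IsCharP X p := FrobSch.IsCharP.of_hom f p
  let r := FrobSch.relFrob f p
  haveI : UniversallyInjective (FrobSch.frob S p) :=
    (isAbsFrob_frob p S).universallyInjective FrobSch.IsCharP.natCast_eq_zero
  haveI : UniversallyInjective (pullback.fst f (FrobSch.frob S p)) :=
    MorphismProperty.pullback_fst (P := @UniversallyInjective) _ _ inferInstance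
  have hr : r ≫ pullback.fst f (FrobSch.frob S p) = FrobSch.frob X p := FrobSch.relFrob_fst f p
  have hsurj : Function.Surjective r := fun z => by
    refine ⟨pullback.fst f (FrobSch.frob S p) z, (pullback.fst f (FrobSch.frob S p)).injective ?_⟩
    rw [← Scheme.Hom.comp_apply, hr]
    rfl
  haveI : Etale r := by
    haveI : Etale (r ≫ pullback.snd f (FrobSch.frob S p)) := by
      rw [show r ≫ pullback.snd f (FrobSch.frob S p) = f from FrobSch.relFrob_snd f p]
      infer_instance
    exact MorphismProperty.of_postcomp (W := @Etale) (W' := @Etale) r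
      (pullback.snd f (FrobSch.frob S p)) inferInstance inferInstance
  haveI : UniversallyInjective r := by
    haveI : UniversallyInjective (FrobSch.frob X p) :=
      (isAbsFrob_frob p X).universallyInjective FrobSch.IsCharP.natCast_eq_zero
    have hinj := ((tfae_universallyInjective (FrobSch.frob X p)).out 0 1).1 ‹_›
    refine ((tfae_universallyInjective r).out 0 1).2 ?_
    intro K instK a b hab
    letI : Field K := instK
    refine hinj K ?_
    show a ≫ FrobSch.frob X p = b ≫ FrobSch.frob X p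
    rw [← hr, ← Category.assoc, ← Category.assoc, show a ≫ r = b ≫ r from hab]
  haveI : IsOpenImmersion r := EtaleSections.isOpenImmersion_of_etale_universallyInjective r
  exact (isIso_iff_isOpenImmersion_and_surjective _).mpr ⟨inferInstance, ⟨hsurj⟩⟩

/-- Relatively perfect morphisms are formally unramified. -/
theorem formallyUnramified_of_isIso_relFrob (f : X ⟶ S) (hf : IsIso (FrobSch.relFrob f p)) :
    FormallyUnramified f := by
  haveI : FrobSch.IsCharP X p := FrobSch.IsCharP.of_hom f p
  refine FormallyUnramified.of_hom_ext f fun R T φ hφ hker g₁ g₂ h1 h2 => ?_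
  haveI : FrobSch.IsCharP (Spec R) p := FrobSch.IsCharP.of_hom (g₁ ≫ f) p
  have hF : FrobSch.frob (Spec R) p ≫ g₁ = FrobSch.frob (Spec R) p ≫ g₂ := by
    have hpR : (p : R) = 0 := by
      apply (Scheme.ΓSpecIso R).commRingCatIsoToRingEquiv.symm.injective
      rw [map_natCast, map_zero]
      exact FrobSch.IsCharP.natCast_eq_zero
    have hle : RingHom.ker φ.hom ≤ RingHom.ker (FrobSch.powHom p R hpR) := fun x hx => by
      rw [RingHom.mem_ker, FrobSch.powHom_apply, ← Nat.sub_add_cancel (Fact.out : p.Prime).two_le,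
        pow_add, show x ^ 2 = 0 from by simpa [hker] using Ideal.pow_mem_pow hx 2, mul_zero]
    let e := RingHom.quotientKerEquivOfSurjective hφ
    let ρ : T ⟶ R := CommRingCat.ofHom
      ((Ideal.Quotient.lift (RingHom.ker φ.hom) (FrobSch.powHom p R hpR) hle).comp e.symm.toRingHom)
    have hρ : φ ≫ ρ = CommRingCat.ofHom (FrobSch.powHom p R hpR) := by
      ext x
      show Ideal.Quotient.lift _ _ hle (e.symm (φ x)) = _
      rw [show e.symm (φ x) = Ideal.Quotient.mk _ x from e.injective (by rw [e.apply_symm_apply]; rfl)]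
      rfl
    have hfr : FrobSch.frob (Spec R) p = Spec.map ρ ≫ Spec.map φ := by
      rw [← Spec.map_comp, hρ]
      refine ext_of_isAffine ?_
      rw [← cancel_epi (Scheme.ΓSpecIso R).inv, ← Scheme.ΓSpecIso_inv_naturality]
      ext x
      show ((Scheme.ΓSpecIso R).inv x) ^ p = (Scheme.ΓSpecIso R).inv (x ^ p)
      rw [map_pow]
    rw [hfr, Category.assoc, Category.assoc, h1]
  rw [← cancel_mono (FrobSch.relFrob f p)]
  apply pullback.hom_ext
  · simp only [Category.assoc, FrobSch.relFrob_fst]
    rw [← FrobSch.frob_comp p g₁, ← FrobSch.frob_comp p g₂, hF]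
  · simp only [Category.assoc, FrobSch.relFrob_snd, h2]

end Groth.Agent.EtMonoFac
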