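import Groth.Agent.MagnetAttr.FormUnram
import Groth.Agent.FibreFlat.Stalk
import Mathlib

/-!
For a formally unramified morphism `b`, the comparison `X ×_Y X → X ×_S X` is an open immersion as soon as
the target is locally noetherian and the map is locally of finite type.
-/

set_option autoImplicit false
set_option linter.style.haveILetI false
set_option backward.isDefEq.respectTransparency false
set_option backward.isDefEq.respectTransparency.types false

universe u

open CategoryTheory CategoryTheory.Limits AlgebraicGeometry IsLocalRing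

namespace Groth.Agent.EtMonoFac

theorem lfp_of_lft' {X Y : Scheme.{u}} (f : X ⟶ Y) [IsLocallyNoetherian Y] [LocallyOfFiniteType f] :
    LocallyOfFinitePresentation f := by
  refine ⟨fun {U} hU {V} hV e => ?_⟩
  haveI : IsNoetherianRing Γ(Y, U) := IsLocallyNoetherian.component_noetherian ⟨U, hU⟩
  exact RingHom.FinitePresentation.of_finiteType.1 (f.finiteType_appLE hU hV e)

theorem flat_of_surjective_flat_comp {W X Y : Scheme.{u}} (q : W ⟶ X) (g : X ⟶ Y) [Flat q] [Surjective q]
    [Flat (q ≫ g)] : Flat g := by
  refine (Flat.iff_flat_stalkMap g).2 fun x => ?_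
  obtain ⟨w, rfl⟩ := q.surjective x
  exact FibreFlat.flatAt_of_comp (Flat.stalkMap q w) (Flat.stalkMap (q ≫ g) w)

/-- The comparison of the fibre products over a formally unramified morphism is open. -/
theorem isOpenImmersion_mapDesc {X₁ X₂ Y S : Scheme.{u}} (f : X₁ ⟶ Y) (g : X₂ ⟶ Y) (b : Y ⟶ S)
    [FormallyUnramified b] [IsLocallyNoetherian (pullback (f ≫ b) (g ≫ b))] :
    IsOpenImmersion (pullback.mapDesc f g b) := by
  let i := pullback.mapDesc f g b
  haveI : LocallyOfFinitePresentation i := lfp_of_lft' i
  haveI : Flat i := by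
    refine Flat.of_stalkMap i fun r => RingHom.Flat.of_bijective ⟨?_, i.stalkMap_surjective r⟩
    let P := pullback (f ≫ b) (g ≫ b)
    let σ := i.stalkMap r
    let K : Ideal (P.presheaf.stalk (i r)) := RingHom.ker σ.hom
    rw [RingHom.injective_iff_ker_eq_bot]
    let D : CommRingCat.{u} := CommRingCat.of (P.presheaf.stalk (i r) ⧸ K ^ 2)
    let q : P.presheaf.stalk (i r) ⟶ D := CommRingCat.ofHom (Ideal.Quotient.mk (K ^ 2))
    let πh : P.presheaf.stalk (i r) ⧸ K ^ 2 →+* (pullback f g).presheaf.stalk r :=
      Ideal.Quotient.lift (K ^ 2) σ.hom fun a ha => (Ideal.pow_le_self two_ne_zero ha : a ∈ K)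
    let π : D ⟶ (pullback f g).presheaf.stalk r := CommRingCat.ofHom πh
    have hqπ : q ≫ π = σ := by ext a; rfl
    have hπs : Function.Surjective π.hom := fun z => by
      obtain ⟨a, ha⟩ := i.stalkMap_surjective r z
      exact ⟨q a, ha⟩
    have hπk : RingHom.ker π.hom ^ 2 = ⊥ := by
      have hk : RingHom.ker π.hom ≤ K.map (Ideal.Quotient.mk (K ^ 2)) := by
        intro z hz
        obtain ⟨a, rfl⟩ := Ideal.Quotient.mk_surjective z
        exact Ideal.mem_map_of_mem _ (hz : σ.hom a = 0)
      rw [eq_bot_iff]
      refine (Ideal.pow_right_mono hk 2).trans ?_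
      rw [← Ideal.map_pow, Ideal.map_quotient_self]
    haveI : IsClosedImmersion (Spec.map π) := IsClosedImmersion.spec_of_surjective π hπs
    haveI : Nontrivial D := by
      refine Ideal.Quotient.nontrivial_iff.2 fun hK => ?_
      have : (1 : P.presheaf.stalk (i r)) ∈ K := Ideal.pow_le_self two_ne_zero (hK ▸ Submodule.mem_top)
      exact one_ne_zero (σ.hom.map_one.symm.trans this)
    haveI : IsLocalRing D := IsLocalRing.of_surjective' _ Ideal.Quotient.mk_surjective
    haveI : IsLocalHom q.hom := IsLocalHom.of_surjective q.hom Ideal.Quotient.mk_surjective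
    let j : Spec D ⟶ P := Spec.map q ≫ P.fromSpecStalk (i r)
    have hj0 : Spec.map π ≫ j = (pullback f g).fromSpecStalk r ≫ i := by
      simp only [j, ← Spec.map_comp_assoc, hqπ]
      exact Scheme.SpecMap_stalkMap_fromSpecStalk i
    have e : j ≫ pullback.fst (f ≫ b) (g ≫ b) ≫ f = j ≫ pullback.snd (f ≫ b) (g ≫ b) ≫ g := by
      refine FormallyUnramified.hom_ext (Spec.map π) (MagnetAttr.isNilpotent_ker_SpecMap π hπk) b ?_ ?_
      · rw [reassoc_of% hj0, reassoc_of% hj0]
        simp only [i, pullback.mapDesc, pullback.lift_fst_assoc, pullback.lift_snd_assoc, Category.comp_id, pullback.condition]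
      · simp only [Category.assoc, pullback.condition]
    let l : Spec D ⟶ pullback f g := pullback.lift (j ≫ pullback.fst _ _) (j ≫ pullback.snd _ _)
      (by simpa only [Category.assoc] using e)
    have hl : l ≫ i = j := by
      apply pullback.hom_ext <;>
        simp only [l, i, pullback.mapDesc, Category.assoc, pullback.lift_fst, pullback.lift_snd,
          Category.comp_id]
    have hpt : l (closedPoint D) = r := by
      refine i.isEmbedding.injective ?_
      rw [← Scheme.Hom.comp_apply, hl]
      show (Spec.map q ≫ P.fromSpecStalk (i r)) (closedPoint D) = i r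
      rw [Scheme.Hom.comp_apply, Spec_closedPoint, Scheme.fromSpecStalk_closedPoint]
    obtain ⟨ψ, hψ⟩ : ∃ ψ : (pullback f g).presheaf.stalk r ⟶ D,
        Spec.map ψ ≫ (pullback f g).fromSpecStalk r = l := by
      rw [← hpt]
      exact ⟨_, Scheme.Spec_stalkClosedPointTo_fromSpecStalk l⟩
    have hq : σ ≫ ψ = q := by
      apply Spec.map_injective
      rw [← cancel_mono (P.fromSpecStalk (i r)), Spec.map_comp, Category.assoc]
      rw [show Spec.map σ ≫ P.fromSpecStalk (i r) = (pullback f g).fromSpecStalk r ≫ i from
        Scheme.SpecMap_stalkMap_fromSpecStalk i, ← Category.assoc, hψ, hl]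
    have hKK : K ≤ K • K := fun a ha => by
      have h1 : q.hom a = 0 := by
        rw [← hq]
        exact (congrArg ψ.hom (ha : σ.hom a = 0)).trans ψ.hom.map_zero
      rw [smul_eq_mul, ← sq]
      exact Ideal.Quotient.eq_zero_iff_mem.1 h1
    refine Submodule.eq_bot_of_le_smul_of_le_jacobson_bot K K (IsNoetherian.noetherian K) hKK ?_
    have hne : K ≠ ⊤ := RingHom.ker_ne_top σ.hom
    exact (le_maximalIdeal hne).trans
      (IsLocalRing.maximalIdeal_le_jacobson _)
  exact IsOpenImmersion.of_flat_of_mono i

end Groth.Agent.EtMonoFac
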